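import Groth.Prelude.Def_MoreMor
import Mathlib.AlgebraicGeometry.QuasiAffine

/-! An immersion is ind-quasi-affine. -/

universe u

open CategoryTheory AlgebraicGeometry

namespace Groth.Agent.DescLead

theorem isIndQuasiAffineHom_of_isImmersion {X Y : Scheme.{u}} (f : X ⟶ Y) [IsImmersion f] :
    MoreMor.IsIndQuasiAffineHom f := fun V hV U hU => by
  haveI : IsAffine (V : Scheme.{u}) := hV
  haveI : CompactSpace (U : Scheme.{u}) := isCompact_iff_compactSpace.mp hU
  exact Scheme.IsQuasiAffine.of_isImmersion (U.ι ≫ f ∣_ V)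

end Groth.Agent.DescLead
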